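import Mathlib
import Groth.Prelude.Def_Found

/-!
Catenary rings: order-theoretic transfer and the dimension function of a catenary local ring.
-/

namespace Groth.Agent.CatLib

open Order

universe u

variable {A B : Type u} [CommRing A] [CommRing B]

theorem isCatenary_of_convex (Φ : PrimeSpectrum B ↪o PrimeSpectrum A)
    (hΦ : (Set.range Φ).OrdConnected) (hA : CAlg.IsCatenary A) : CAlg.IsCatenary B := by
  obtain ⟨h1, h2⟩ := hA
  refine ⟨fun p q hpq => ?_, fun s t hh hl hs ht => ?_⟩
  · obtain ⟨n, hn⟩ := h1 (Φ p) (Φ q) (Φ.monotone hpq)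
    refine ⟨n, fun s hs hs' => hn (s.map Φ Φ.strictMono) ?_ ?_⟩
    · rw [LTSeries.head_map, hs]
    · rw [LTSeries.last_map, hs']
  · exact h2 (s.map Φ Φ.strictMono) (t.map Φ Φ.strictMono) (by rw [LTSeries.head_map, LTSeries.head_map, hh])
      (by rw [LTSeries.last_map, LTSeries.last_map, hl])
      (fun i => (hs i).image Φ hΦ) (fun i => (ht i).image Φ hΦ)

theorem isCatenary_of_isLocalization (S : Submonoid A) [Algebra A B] [IsLocalization S B]
    (hA : CAlg.IsCatenary A) : CAlg.IsCatenary B := by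
  let e := (IsLocalization.orderIsoOfPrime S B)
  refine isCatenary_of_convex
    (OrderEmbedding.ofMapLEIff (fun q => PrimeSpectrum.comap (algebraMap A B) q) fun p q => ?_) ?_ hA
  · change (e ⟨p.asIdeal, p.isPrime⟩).1 ≤ (e ⟨q.asIdeal, q.isPrime⟩).1 ↔ _
    exact e.le_iff_le (x := ⟨p.asIdeal, p.isPrime⟩) (y := ⟨q.asIdeal, q.isPrime⟩)
  · refine ⟨fun x hx y hy z hz => ?_⟩
    obtain ⟨q, rfl⟩ := hy
    have hdisj : Disjoint (S : Set A) z.asIdeal :=
      Set.disjoint_of_subset_right (fun a ha => hz.2 ha)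
        ((e ⟨q.asIdeal, q.isPrime⟩).2.2)
    exact ⟨⟨(e.symm ⟨z.asIdeal, z.isPrime, hdisj⟩).1, (e.symm ⟨z.asIdeal, z.isPrime, hdisj⟩).2⟩,
      PrimeSpectrum.ext (congrArg Subtype.val (e.apply_symm_apply ⟨z.asIdeal, z.isPrime, hdisj⟩))⟩

theorem isCatenary_quotient (I : Ideal A) (hA : CAlg.IsCatenary A) : CAlg.IsCatenary (A ⧸ I) := by
  refine isCatenary_of_convex
    (OrderEmbedding.ofMapLEIff (fun q => PrimeSpectrum.comap (Ideal.Quotient.mk I) q) fun p q => ?_) ?_ hA
  · exact (Ideal.comap_le_comap_iff_of_surjective _ Ideal.Quotient.mk_surjective _ _)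
  · refine ⟨fun x hx y hy z hz => ?_⟩
    obtain ⟨q, rfl⟩ := hx
    have hI : I ≤ z.asIdeal := fun a ha => hz.1 (show Ideal.Quotient.mk I a ∈ q.asIdeal by
      rw [Ideal.Quotient.eq_zero_iff_mem.mpr ha]
      exact zero_mem _)
    haveI : (z.asIdeal.map (Ideal.Quotient.mk I)).IsPrime :=
      Ideal.map_isPrime_of_surjective Ideal.Quotient.mk_surjective (by rwa [Ideal.mk_ker])
    refine ⟨⟨z.asIdeal.map (Ideal.Quotient.mk I), inferInstance⟩, PrimeSpectrum.ext ?_⟩
    show (z.asIdeal.map (Ideal.Quotient.mk I)).comap (Ideal.Quotient.mk I) = z.asIdeal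
    rw [Ideal.comap_map_of_surjective _ Ideal.Quotient.mk_surjective, ← RingHom.ker_eq_comap_bot,
      Ideal.mk_ker, sup_eq_left.mpr hI]

theorem ringKrullDim_quotient_eq_coheight (p : PrimeSpectrum A) :
    ringKrullDim (A ⧸ p.asIdeal) = (coheight p : WithBot ℕ∞) := by
  rw [ringKrullDim_quotient, coheight_eq_krullDim_Ici]
  rfl

theorem coheight_ne_top [IsNoetherianRing A] [IsLocalRing A] (p : PrimeSpectrum A) : coheight p ≠ ⊤ := fun h => by
  have h1 : ((coheight p : ℕ∞) : WithBot ℕ∞) ≤ ringKrullDim A := coheight_le_krullDim p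
  rw [h] at h1
  have h2 : ringKrullDim A < (⊤ : WithBot ℕ∞) := ringKrullDim_lt_top
  exact absurd (h1.trans_lt h2) (lt_irrefl _)

theorem exists_cons_saturated {α : Type*} [Preorder α] (t : LTSeries α) {p : α} (h : p ⋖ t.head)
    (ht : ∀ i : Fin t.length, t (Fin.castSucc i) ⋖ t (Fin.succ i)) :
    ∃ s : LTSeries α, s.head = p ∧ s.last = t.last ∧ s.length = t.length + 1 ∧
      ∀ i : Fin s.length, s (Fin.castSucc i) ⋖ s (Fin.succ i) := by
  have hstep : ∀ i : Fin (t.length + 1), (Fin.cons p t.toFun : Fin (t.length + 2) → α) i.castSucc ⋖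
      (Fin.cons p t.toFun : Fin (t.length + 2) → α) i.succ := by
    intro i
    induction i using Fin.cases with
    | zero => simpa [RelSeries.head] using h
    | succ i => simpa [← Fin.succ_castSucc] using ht i
  exact ⟨⟨t.length + 1, Fin.cons p t.toFun, fun i => (hstep i).lt⟩, rfl, by
    simp [RelSeries.last, ← Fin.succ_last], rfl, hstep⟩

/-- A saturated chain from `p` to the closed point of length `coheight p`. -/
theorem exists_saturated [IsLocalRing A] : ∀ (n : ℕ) (p : PrimeSpectrum A), coheight p = n →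
    ∃ s : LTSeries (PrimeSpectrum A), s.head = p ∧ s.last = IsLocalRing.closedPoint A ∧ s.length = n ∧
      ∀ i : Fin s.length, s (Fin.castSucc i) ⋖ s (Fin.succ i) := by
  intro n
  induction n with
  | zero =>
    intro p hp
    have hmax : IsMax p := coheight_eq_zero.mp (by exact_mod_cast hp)
    have : p = IsLocalRing.closedPoint A := le_antisymm (IsLocalRing.le_maximalIdeal p.isPrime.ne_top)
      (hmax (IsLocalRing.le_maximalIdeal p.isPrime.ne_top))
    subst this
    exact ⟨RelSeries.singleton _ _, rfl, rfl, rfl, fun i => i.elim0⟩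
  | succ n ih =>
    intro p hp
    obtain ⟨-, ⟨y, hy, hyn⟩, -⟩ := coheight_eq_coe_add_one_iff.mp (by exact_mod_cast hp)
    have hcov : p ⋖ y := by
      refine ⟨hy, fun z hpz hzy => ?_⟩
      have h1 : coheight y + 1 ≤ coheight z := coheight_add_one_le hzy
      have h3 : ∀ w : PrimeSpectrum A, p < w → coheight w ≤ n := fun w hw => by
        have hw' : coheight w + 1 ≤ coheight p := coheight_add_one_le hw
        rw [hp] at hw'
        push_cast at hw'
        exact ENat.add_le_add_iff_right (by simp) |>.mp hw'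
      have h2 := h3 z hpz
      rw [hyn] at h1
      have h4 : ((n + 1 : ℕ) : ℕ∞) ≤ (n : ℕ∞) := by push_cast; exact h1.trans h2
      exact absurd (Nat.cast_le.mp h4) (by omega)
    obtain ⟨s, hh, hl, hn, hs⟩ := ih y hyn
    obtain ⟨s', h1, h2, h3, h4⟩ := exists_cons_saturated s (hh.symm ▸ hcov) hs
    exact ⟨s', h1, h2.trans hl, by omega, h4⟩

theorem length_add_coheight {s : LTSeries (PrimeSpectrum A)}
    (H : ∀ p q : PrimeSpectrum A, p ⋖ q → coheight p = coheight q + 1)
    (hs : ∀ i : Fin s.length, s (Fin.castSucc i) ⋖ s (Fin.succ i)) :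
    coheight s.last + s.length = coheight s.head := by
  suffices ∀ i : Fin (s.length + 1), coheight (s i) + (i : ℕ) = coheight s.head by
    simpa [RelSeries.last] using this (Fin.last _)
  intro i
  induction i using Fin.induction with
  | zero => simp [RelSeries.head]
  | succ i ih =>
    rw [← ih, H _ _ (hs i), Fin.val_succ, Fin.val_castSucc]
    push_cast
    rw [add_assoc, add_comm (i : ℕ∞) 1]

theorem isCatenary_iff_coheight [IsNoetherianRing A] [IsLocalRing A] :
    CAlg.IsCatenary A ↔ ∀ p q : PrimeSpectrum A, p ⋖ q → coheight p = coheight q + 1 := by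
  constructor
  · intro h p q hpq
    obtain ⟨n, hn⟩ := ENat.ne_top_iff_exists.mp (coheight_ne_top p)
    obtain ⟨k, hk⟩ := ENat.ne_top_iff_exists.mp (coheight_ne_top q)
    obtain ⟨s, sh, sl, sn, ss⟩ := exists_saturated n p hn.symm
    obtain ⟨t, th, tl, tn, ts⟩ := exists_saturated k q hk.symm
    obtain ⟨t', h1, h2, h3, h4⟩ := exists_cons_saturated t (th.symm ▸ hpq) ts
    have := h.2 s t' (by rw [sh, h1]) (by rw [sl, h2, tl]) ss h4
    rw [sn, h3, tn] at this
    rw [← hn, ← hk, this]
    push_cast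
    rfl
  · intro H
    refine ⟨fun p q hpq => ?_, fun s t hh hl hs ht => ?_⟩
    · obtain ⟨n, hn⟩ := ENat.ne_top_iff_exists.mp (coheight_ne_top p)
      refine ⟨n, fun s hs _ => ?_⟩
      have h1 : (s.length : ℕ∞) ≤ coheight p := hs ▸ length_le_coheight_head
      rw [← hn] at h1
      exact_mod_cast h1
    · have h1 := length_add_coheight H hs
      have h2 := length_add_coheight H ht
      rw [hh, ← h2, hl] at h1
      exact Nat.cast_inj.mp (WithTop.add_left_cancel (coheight_ne_top t.last) h1)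

end Groth.Agent.CatLib
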